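import Groth.Agent.Lib.RHom.ProjClosed
import Groth.Agent.Lib.CohFound.ModulesInst
import Groth.Agent.Lib.CohFound.ModQuot
import Mathlib.CategoryTheory.Adjunction.AdjointFunctorTheorems
import Mathlib.CategoryTheory.Abelian.GrothendieckCategory.Subobject
import Mathlib.CategoryTheory.Abelian.Subobject

/-!
# Direct images along closed immersions have right adjoints
-/

set_option linter.style.haveILetI false
set_option backward.isDefEq.respectTransparency false
set_option backward.isDefEq.respectTransparency.types false

universe u

open CategoryTheory CategoryTheory.Limits AlgebraicGeometry Groth.Agent.CohFound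

namespace Groth.Agent.HomO15

open Groth.Agent.RHom

variable {X Y : Scheme.{u}} (i : X ⟶ Y) [IsClosedImmersion i]

local notation "Pu" => Scheme.Modules.pushforward i

theorem preservesColimits : PreservesColimitsOfSize.{u, u} (Pu) where
  preservesColimitsOfShape {J} _ := ⟨fun {K} => by
    haveI : IsIso (colimit.post K (Pu)) := by
      rw [M1.isIso_iff_stalk]
      intro x
      by_cases hx : x ∈ Set.range i
      · obtain ⟨z, rfl⟩ := hx
        haveI : PreservesColimit K (Pu ⋙ M1.stalkAb (i z)) :=
          preservesColimit_of_natIso K (stalkPushIso i z).symm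
        haveI : IsIso ((M1.stalkAb (i z)).map (colimit.post K (Pu))) := by
          haveI : IsIso (colimit.post (K ⋙ Pu) (M1.stalkAb (i z)) ≫
              (M1.stalkAb (i z)).map (colimit.post K (Pu))) := by
            rw [colimit.post_post]
            exact inferInstanceAs (IsIso (colimit.post K (Pu ⋙ M1.stalkAb (i z))))
          exact IsIso.of_isIso_comp_left (colimit.post (K ⋙ Pu) (M1.stalkAb (i z))) _
        exact ConcreteCategory.bijective_of_isIso _
      · have h0 : IsZero ((M1.stalkAb x).obj (colimit (K ⋙ Pu))) := by
          rw [IsZero.iff_id_eq_zero]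
          refine (isColimitOfPreserves (M1.stalkAb x) (colimit.isColimit (K ⋙ Pu))).hom_ext fun j => ?_
          ext a
          exact (congrArg _ (M1.eq_zero_stalk_push i (K.obj j) hx a)).trans
            ((map_zero _).trans (by simp))
        haveI := AddCommGrpCat.subsingleton_of_isZero h0
        exact ⟨fun a b _ => Subsingleton.elim a b,
          fun b => ⟨0, (map_zero _).trans (M1.eq_zero_stalk_push i _ hx b).symm⟩⟩
    exact preservesColimit_of_isIso_post (Pu) K⟩

theorem isLeftAdjoint : (Pu).IsLeftAdjoint := by
  haveI : PreservesColimits (Pu) := preservesColimits i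
  haveI := isGrothendieckAbelian_sheafOfModules.{u} X.ringCatSheaf
  haveI : IsGrothendieckAbelian.{u} X.Modules := ‹_›
  haveI : HasSeparator X.Modules := inferInstance
  haveI : WellPowered.{u} X.Modules := wellPowered_of_isDetector _ (isSeparator_separator X.Modules).isDetector
  haveI : WellPowered.{u} X.Modulesᵒᵖ := Abelian.wellPowered_opposite
  exact isLeftAdjoint_of_preservesColimits_of_isSeparating (isSeparator_separator X.Modules) _

end Groth.Agent.HomO15
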