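import Groth.Agent.Lib.CohFound.ClosedImmPush
import Groth.Agent.Lib.ModM1.Sub
import Groth.Agent.Lib.Curve17.SubSheaf
import Mathlib.CategoryTheory.Adjunction.FullyFaithful

/-!
# Sections of the right adjoint of `i_*` for a closed immersion `i`
-/

set_option linter.style.haveILetI false
set_option backward.isDefEq.respectTransparency false

universe u

open CategoryTheory CategoryTheory.Limits AlgebraicGeometry Opposite TopologicalSpace TensorProduct

namespace Groth.Agent.HomO15

open Groth.Agent.M1

variable {X Z : Scheme.{u}} (i : Z ⟶ X) [IsClosedImmersion i]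

/-- The ideal of `i` kills the sections over affine opens. -/
def Killed (G : X.Modules) : Prop :=
  ∀ (U : X.affineOpens) (a : Γ(X, U.1)), a ∈ i.ker.ideal U → ∀ s : Γ(G, U.1), a • s = 0

theorem killed_push (N : Z.Modules) : Killed i ((Scheme.Modules.pushforward i).obj N) :=
  CohFound.ker_smul_push i N

theorem killed_of_mono {G H : X.Modules} (f : G ⟶ H) [Mono f] (hH : Killed i H) : Killed i G := by
  intro U a ha s
  refine (M1.app_injective f U.1) ?_
  rw [f.app_smul, map_zero]
  exact hH U a ha _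

/-- Germs of ideal sections kill the stalks of a killed module. -/
theorem germ_smul_stalk {G : X.Modules} (h : Killed i G) (U : X.affineOpens) (a : Γ(X, U.1))
    (ha : a ∈ i.ker.ideal U) (x : X) (hx : x ∈ U.1) (m : G.presheaf.stalk x) :
    X.presheaf.germ U.1 x hx a • m = 0 := by
  obtain ⟨W, hW, t, rfl⟩ := G.presheaf.germ_exist m
  obtain ⟨g, hgW, hxg⟩ := U.2.exists_basicOpen_le (V := U.1 ⊓ W) ⟨x, hx, hW⟩ hx
  have hmem : ores (X.basicOpen_le g) a ∈ i.ker.ideal (X.affineBasicOpen g) := by
    rw [← i.ker.map_ideal_basicOpen U g]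
    exact Ideal.mem_map_of_mem _ ha
  have h0 := h (X.affineBasicOpen g) _ hmem (mres G (hgW.trans inf_le_right) t)
  have h1 := congrArg (G.presheaf.germ (X.basicOpen g) x hxg) h0
  rw [map_zero] at h1
  refine Eq.trans ?_ h1
  refine Eq.trans ?_ (germ_smul G hxg _ _).symm
  rw [germ_mres]
  congr 1
  exact (TopCat.Presheaf.germ_res_apply X.presheaf (homOfLE (X.basicOpen_le g)) x hxg a).symm

/-- If the ideal kills a module, the kernel of the stalk map kills its stalks. -/
theorem smul_stalk_eq_zero {G : X.Modules} (h : Killed i G) (z : Z) (r : X.presheaf.stalk (i z))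
    (hr : i.stalkMap z r = 0) (m : G.presheaf.stalk (i z)) : r • m = 0 := by
  obtain ⟨U, hU, hxU, -⟩ := exists_isAffineOpen_mem_and_subset (x := i z) (U := ⊤) trivial
  let := TopCat.Presheaf.algebra_section_stalk X.presheaf (⟨i z, hxU⟩ : U)
  have := hU.isLocalization_stalk ⟨i z, hxU⟩
  obtain ⟨⟨b, c₂⟩, hb⟩ := IsLocalization.surj (hU.primeIdealOf ⟨i z, hxU⟩).asIdeal.primeCompl r
  have hb' : r * X.presheaf.germ U (i z) hxU c₂.1 = X.presheaf.germ U (i z) hxU b := hb
  have hzU : z ∈ i ⁻¹ᵁ U := hxU
  let := TopCat.Presheaf.algebra_section_stalk Z.presheaf (⟨z, hzU⟩ : (i ⁻¹ᵁ U : Z.Opens))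
  have := (hU.preimage i).isLocalization_stalk ⟨z, hzU⟩
  have hb0 : algebraMap Γ(Z, i ⁻¹ᵁ U) (Z.presheaf.stalk z) (i.app U b) = 0 := by
    change Z.presheaf.germ (i ⁻¹ᵁ U) z hzU (i.app U b) = 0
    rw [← Scheme.Hom.germ_stalkMap_apply i U z hxU, ← hb', map_mul, hr, zero_mul]
  obtain ⟨d, hd⟩ := (IsLocalization.map_eq_zero_iff
    ((hU.preimage i).primeIdealOf ⟨z, hzU⟩).asIdeal.primeCompl (Z.presheaf.stalk z) _).mp hb0
  obtain ⟨c, hc⟩ := i.app_surjective U hU d.1
  have hcu : IsUnit (X.presheaf.germ U (i z) hxU c) := by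
    refine isUnit_of_map_unit (i.stalkMap z).hom _ ?_
    rw [Scheme.Hom.germ_stalkMap_apply, hc]
    exact (isUnit_germ_iff (hU.preimage i) hzU d.1).mpr d.2
  have hker : c * b ∈ i.ker.ideal ⟨U, hU⟩ := by
    rw [Scheme.Hom.ker_apply, RingHom.mem_ker, map_mul, hc]
    exact hd
  have h0 := germ_smul_stalk i h ⟨U, hU⟩ _ hker (i z) hxU m
  rw [map_mul, ← hb'] at h0
  have hu : IsUnit (X.presheaf.germ U (i z) hxU c * X.presheaf.germ U (i z) hxU c₂.1) :=
    hcu.mul ((isUnit_germ_iff hU hxU c₂.1).mpr c₂.2)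
  refine hu.smul_eq_zero.mp ?_
  rw [← mul_smul]
  refine Eq.trans (congrArg (· • m) ?_) h0
  ring

theorem stalk_eq_zero {G : X.Modules} (h : Killed i G) (x : X) (hx : x ∉ Set.range i)
    (m : G.presheaf.stalk x) : m = 0 := by
  obtain ⟨U, hU, hxU, -⟩ := exists_isAffineOpen_mem_and_subset (x := x) (U := ⊤) trivial
  have hx' : x ∉ i.ker.support := fun h' => hx <| by
    have h'' : x ∈ closure (Set.range i) := by rw [← Scheme.Hom.support_ker]; exact h'
    rwa [i.isClosedEmbedding.isClosed_range.closure_eq] at h''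
  rw [Scheme.IdealSheafData.mem_support_iff_of_mem (U := ⟨U, hU⟩) hxU, Scheme.mem_zeroLocus_iff] at hx'
  push Not at hx'
  obtain ⟨b, hb, hxb⟩ := hx'
  exact ((X.mem_basicOpen b x hxU).mp hxb).smul_eq_zero.mp (germ_smul_stalk i h ⟨U, hU⟩ b hb x hxU m)

/-- A module killed by the ideal of a closed immersion is the direct image of its pullback. -/
theorem isIso_unit {G : X.Modules} (h : Killed i G) :
    IsIso ((Scheme.Modules.pullbackPushforwardAdjunction i).unit.app G) := by
  let N := (Scheme.Modules.pullback i).obj G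
  rw [M1.isIso_iff_stalk]
  intro x
  by_cases hx : x ∈ Set.range i
  · obtain ⟨z, rfl⟩ := hx
    have hp : Function.Bijective
        (TopCat.Presheaf.stalkPushforward AddCommGrpCat.{u} i.base N.presheaf z) := by
      have := TopCat.Presheaf.stalkPushforward.stalkPushforward_iso_of_isInducing (C := AddCommGrpCat.{u})
        (f := i.base) i.isClosedEmbedding.isInducing N.presheaf z
      exact ConcreteCategory.bijective_of_isIso _
    refine (Function.Bijective.of_comp_iff' hp _).mp ?_
    change Function.Bijective (M2.stalkUnit i z G)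
    have h1 := M1.bijective_one_tmul (R := X.presheaf.stalk (i z)) (S := Z.presheaf.stalk z)
      (M := G.presheaf.stalk (i z)) (i.stalkMap_surjective z) (smul_stalk_eq_zero i h z)
    have h2 : (M2.stalkUnit i z G : G.presheaf.stalk (i z) → N.presheaf.stalk z) =
        (M2.pullStalkEquiv i z G) ∘ fun m => (1 : Z.presheaf.stalk z) ⊗ₜ m :=
      funext fun m => (LinearMap.liftBaseChange_one_tmul _ (M2.stalkUnit i z G) m).symm
    rw [h2]
    exact (M2.pullStalkEquiv i z G).bijective.comp h1
  · refine ⟨fun a b _ => (stalk_eq_zero i h x hx a).trans (stalk_eq_zero i h x hx b).symm,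
      fun b => ⟨0, ?_⟩⟩
    exact (map_zero _).trans (M1.eq_zero_stalk_push i N hx b).symm

/-- The submodule of germs killed by the ideal. -/
noncomputable def killedGerms (F : X.Modules) (x : X) :
    Submodule (X.presheaf.stalk x) (F.presheaf.stalk x) :=
  Submodule.torsionBySet _ _
    {r | ∃ (U : X.affineOpens) (hx : x ∈ U.1) (a : Γ(X, U.1)), a ∈ i.ker.ideal U ∧
      X.presheaf.germ U.1 x hx a = r}

theorem germ_mem_killedGerms {F : X.Modules} (U : X.affineOpens) (s : Γ(F, U.1))
    (hs : ∀ a ∈ i.ker.ideal U, a • s = 0) (x : X) (hx : x ∈ U.1) :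
    F.presheaf.germ U.1 x hx s ∈ killedGerms i F x := by
  refine (Submodule.mem_torsionBySet_iff _ _).2 ?_
  rintro ⟨r, U', hx', a, ha, rfl⟩
  change X.presheaf.germ U'.1 x hx' a • F.presheaf.germ U.1 x hx s = 0
  obtain ⟨f, g, hfg, hxf⟩ := exists_basicOpen_le_affine_inter U.2 U'.2 x ⟨hx, hx'⟩
  have h1 : X.basicOpen f ≤ U'.1 := hfg.le.trans (X.basicOpen_le g)
  have hmem : ores h1 a ∈ i.ker.ideal (X.affineBasicOpen f) := by
    rw [Scheme.Hom.ker_apply, RingHom.mem_ker] at ha ⊢
    have := congr($(i.naturality (homOfLE h1).op) a)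
    refine Eq.trans this ?_
    change (Z.presheaf.map _) (i.app U'.1 a) = 0
    rw [ha, map_zero]
  have hann : ∀ b : Γ(X, X.basicOpen f), b ∈ i.ker.ideal (X.affineBasicOpen f) →
      b • mres F (X.basicOpen_le f) s = 0 := by
    intro b hb
    rw [← i.ker.map_ideal_basicOpen U f] at hb
    have hle : (i.ker.ideal U).map (ores (X.basicOpen_le f)).hom ≤
        LinearMap.ker (LinearMap.toSpanSingleton Γ(X, X.basicOpen f) Γ(F, X.basicOpen f)
          (mres F (X.basicOpen_le f) s)) := by
      rw [Ideal.map_le_iff_le_comap]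
      intro c hc
      change ores (X.basicOpen_le f) c • mres F (X.basicOpen_le f) s = 0
      rw [← mres_smul, hs c hc, map_zero]
    exact hle hb
  have h0 := congrArg (F.presheaf.germ (X.basicOpen f) x hxf) (hann _ hmem)
  rw [map_zero, germ_smul, germ_mres] at h0
  refine Eq.trans (congrArg (· • _) ?_) h0
  exact (TopCat.Presheaf.germ_res_apply X.presheaf (homOfLE h1) x hxf a).symm

theorem killed_subMod (F : X.Modules) : Killed i (Curve17.subMod F (killedGerms i F)) := by
  intro U a ha s
  apply Curve17.subι_injective F (killedGerms i F) U.1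
  rw [(Curve17.subι F (killedGerms i F)).app_smul, map_zero]
  refine M1.section_ext _ _ fun x hx => ?_
  rw [M1.germ_smul, map_zero]
  exact (Submodule.mem_torsionBySet_iff _ _).1
    ((Curve17.exists_preimage_iff F (killedGerms i F) _).1 ⟨s, rfl⟩ x hx)
    ⟨_, U, hx, a, ha, rfl⟩

variable {R : X.Modules ⥤ Z.Modules} (adj : Scheme.Modules.pushforward i ⊣ R) (F : X.Modules)

theorem mono_counit : Mono (adj.counit.app F) := by
  apply Preadditive.mono_of_kernel_zero
  let κ := kernel.ι (adj.counit.app F)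
  haveI := isIso_unit i (killed_of_mono i κ (killed_push i _))
  let η := (Scheme.Modules.pullbackPushforwardAdjunction i).unit.app (kernel (adj.counit.app F))
  haveI : IsIso η := ‹_›
  let g : (Scheme.Modules.pullback i).obj (kernel (adj.counit.app F)) ⟶ R.obj F :=
    ((Scheme.Modules.pullbackPushforwardAdjunction i).homEquiv _ _).symm κ
  have hκ : κ = η ≫ (Scheme.Modules.pushforward i).map g :=
    ((((Scheme.Modules.pullbackPushforwardAdjunction i).homEquiv _ _).apply_symm_apply κ).symm).trans
      ((Scheme.Modules.pullbackPushforwardAdjunction i).homEquiv_unit _ _ _)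
  have h0 : (Scheme.Modules.pushforward i).map g ≫ adj.counit.app F = 0 := by
    rw [← cancel_epi η, ← Category.assoc, ← hκ, comp_zero]
    exact kernel.condition _
  have hg : g = 0 := by
    refine (adj.homEquiv _ _).symm.injective ?_
    rw [adj.homEquiv_counit, adj.homEquiv_counit, h0, Functor.map_zero, zero_comp]
  change κ = 0
  rw [hκ, hg, Functor.map_zero, comp_zero]

theorem mem_range_counit_iff (U : X.affineOpens) (s : Γ(F, U.1)) :
    (∃ t, (adj.counit.app F).app U.1 t = s) ↔ ∀ a ∈ i.ker.ideal U, a • s = 0 := by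
  constructor
  · rintro ⟨t, rfl⟩ a ha
    rw [← (adj.counit.app F).app_smul, killed_push i _ U a ha t, map_zero]
  · intro hs
    obtain ⟨f, rfl⟩ := (Curve17.exists_preimage_iff F (killedGerms i F) s).2
      (germ_mem_killedGerms i U s hs)
    let G := Curve17.subMod F (killedGerms i F)
    haveI := isIso_unit i (killed_subMod i F)
    let η := (Scheme.Modules.pullbackPushforwardAdjunction i).unit.app G
    haveI : IsIso η := ‹_›
    let g := (adj.homEquiv _ _) (inv η ≫ Curve17.subι F (killedGerms i F))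
    have hg : η ≫ (Scheme.Modules.pushforward i).map g ≫ adj.counit.app F =
        Curve17.subι F (killedGerms i F) := by
      have h1 : (Scheme.Modules.pushforward i).map g ≫ adj.counit.app F =
          inv η ≫ Curve17.subι F (killedGerms i F) :=
        ((adj.homEquiv_counit _ _ g).symm).trans ((adj.homEquiv _ _).symm_apply_apply _)
      rw [h1, IsIso.hom_inv_id_assoc]
    refine ⟨((Scheme.Modules.pushforward i).map g).app U.1 (η.app U.1 f), ?_⟩
    exact congr($(hg).app U.1 f)

end Groth.Agent.HomO15
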